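import Cfsg.Agent.H0.PG2
set_option maxRecDepth 100000
set_option Elab.async false
set_option linter.unusedSectionVars false
namespace H0.MHZ
open H0 BN 
noncomputable def n0 : Net := (Net.cons (nat_lit 8) (nat_lit 0x68) (Net.cons (nat_lit 4) (nat_lit 0xe) (Net.cons (nat_lit 2) (nat_lit 0x2020) (Net.cons (nat_lit 1) (nat_lit 0x1001) (Net.cons (nat_lit 2) (nat_lit 0x2000) (Net.cons (nat_lit 4) (nat_lit 0xa) (Net.cons (nat_lit 8) (nat_lit 0x68) Net.nil)))))))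
noncomputable def n1 : Net := (Net.cons (nat_lit 8) (nat_lit 0x4a) (Net.cons (nat_lit 4) (nat_lit 0x801) (Net.cons (nat_lit 2) (nat_lit 0x323) (Net.cons (nat_lit 1) (nat_lit 0x4004) (Net.cons (nat_lit 2) (nat_lit 0x2) (Net.cons (nat_lit 4) (nat_lit 0xc0c) (Net.cons (nat_lit 8) (nat_lit 0xc4) Net.nil)))))))
noncomputable def n2 : Net := (Net.cons (nat_lit 8) (nat_lit 0xc4) (Net.cons (nat_lit 4) (nat_lit 0xc03) (Net.cons (nat_lit 2) (nat_lit 0x312) (Net.cons (nat_lit 1) (nat_lit 0x4010) (Net.cons (nat_lit 4) (nat_lit 0x80e) (Net.cons (nat_lit 8) (nat_lit 0x4a) Net.nil))))))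
noncomputable def n3 : Net := (Net.cons (nat_lit 8) (nat_lit 0x78) (Net.cons (nat_lit 4) (nat_lit 0xc) (Net.cons (nat_lit 2) (nat_lit 0x1230) (Net.cons (nat_lit 1) (nat_lit 0x50) (Net.cons (nat_lit 4) (nat_lit 0xc) (Net.cons (nat_lit 8) (nat_lit 0x78) Net.nil))))))
noncomputable def n4 : Net := (Net.cons (nat_lit 8) (nat_lit 0xf6) (Net.cons (nat_lit 4) (nat_lit 0xd06) (Net.cons (nat_lit 2) (nat_lit 0x3302) (Net.cons (nat_lit 1) (nat_lit 0x1414) (Net.cons (nat_lit 2) (nat_lit 0x200) (Net.cons (nat_lit 4) (nat_lit 0x606) (Net.cons (nat_lit 8) (nat_lit 0xd0) Net.nil)))))))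
noncomputable def n5 : Net := (Net.cons (nat_lit 8) (nat_lit 0xd0) (Net.cons (nat_lit 4) (nat_lit 0x906) (Net.cons (nat_lit 2) (nat_lit 0x1300) (Net.cons (nat_lit 1) (nat_lit 0x1414) (Net.cons (nat_lit 2) (nat_lit 0x2) (Net.cons (nat_lit 4) (nat_lit 0x206) (Net.cons (nat_lit 8) (nat_lit 0xf6) Net.nil)))))))
noncomputable def n6 : Net := (Net.cons (nat_lit 8) (nat_lit 0x50) (Net.cons (nat_lit 4) (nat_lit 0x80e) (Net.cons (nat_lit 2) (nat_lit 0x2112) (Net.cons (nat_lit 1) (nat_lit 0x4040) (Net.cons (nat_lit 4) (nat_lit 0xa0e) (Net.cons (nat_lit 8) (nat_lit 0x40) Net.nil))))))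
noncomputable def n7 : Net := (Net.cons (nat_lit 8) (nat_lit 0x40) (Net.cons (nat_lit 4) (nat_lit 0xa0e) (Net.cons (nat_lit 2) (nat_lit 0x132) (Net.cons (nat_lit 1) (nat_lit 0x4010) (Net.cons (nat_lit 2) (nat_lit 0x2020) (Net.cons (nat_lit 4) (nat_lit 0x80e) (Net.cons (nat_lit 8) (nat_lit 0x50) Net.nil)))))))
noncomputable def n8 : Net := (Net.cons (nat_lit 8) (nat_lit 0x12) (Net.cons (nat_lit 4) (nat_lit 0x306) (Net.cons (nat_lit 1) (nat_lit 0x550) (Net.cons (nat_lit 4) (nat_lit 0x200) (Net.cons (nat_lit 8) (nat_lit 0x1a) Net.nil)))))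
noncomputable def n9 : Net := (Net.cons (nat_lit 8) (nat_lit 0x3a) (Net.cons (nat_lit 4) (nat_lit 0x10c) (Net.cons (nat_lit 1) (nat_lit 0x1414) (Net.cons (nat_lit 4) (nat_lit 0xa) (Net.cons (nat_lit 8) (nat_lit 0x2) Net.nil)))))
noncomputable def n10 : Net := (Net.cons (nat_lit 8) (nat_lit 0xb0) (Net.cons (nat_lit 4) (nat_lit 0xb08) (Net.cons (nat_lit 1) (nat_lit 0x1540) (Net.cons (nat_lit 4) (nat_lit 0x808) (Net.cons (nat_lit 8) (nat_lit 0xb0) Net.nil)))))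
noncomputable def n11 : Net := (Net.cons (nat_lit 8) (nat_lit 0xa8) (Net.cons (nat_lit 4) (nat_lit 0xa00) (Net.cons (nat_lit 2) (nat_lit 0x2310) (Net.cons (nat_lit 1) (nat_lit 0x500) (Net.cons (nat_lit 4) (nat_lit 0xa00) (Net.cons (nat_lit 8) (nat_lit 0xa8) Net.nil))))))
noncomputable def n12 : Net := (Net.cons (nat_lit 8) (nat_lit 0x38) (Net.cons (nat_lit 4) (nat_lit 0x300) (Net.cons (nat_lit 1) (nat_lit 0x440) (Net.cons (nat_lit 8) (nat_lit 0x38) Net.nil))))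
def B : List (List ℕ) := [[0, 0], [1, 2], [2, 1], [3, 3], [4, 5], [5, 4], [6, 7], [7, 6], [8, 9], [9, 8], [10, 10], [11, 11], [12, 12], [10, 11, 10, 11], [10, 11, 10, 11], [10, 12, 10, 12], [10, 12, 10, 12], [11, 12, 11, 12], [11, 12, 11, 12], [6, 6, 6, 6], [8, 8, 8], [7, 8, 7, 8, 10], [6, 8, 6, 8, 11], [6, 9, 7, 8, 6, 12], [6, 8, 6, 8, 6, 8, 6, 8], [6, 8, 7, 9, 6, 8, 7, 9, 6, 8, 7, 9], [6, 9, 6, 9, 6, 9, 6, 9], [8, 12, 8, 12], [9, 10, 6, 12, 11], [9, 11, 7, 12, 10], [6, 9, 12, 7, 12, 11], [4, 4, 4, 4, 4, 4, 4], [5, 3, 4, 3, 5, 7], [5, 5, 3, 5, 5, 5, 3, 5, 9], [3, 4, 3, 4, 3, 4, 3, 4, 3, 4, 3, 4, 3, 4], [3, 4, 3, 5, 3, 4, 3, 5, 3, 4, 3, 5], [3, 5, 3, 5, 3, 5, 3, 5, 3, 5, 3, 5, 3, 5], [3, 9, 11, 8], [5, 11, 4, 12, 8], [5, 12, 4, 10, 8, 7], [5, 10, 4, 6, 10, 7], [4, 10, 7, 4, 10, 7], [4, 4, 12, 3, 5, 9], [1, 1, 1, 1, 1, 1, 1], [1, 0, 2, 3], [0, 2, 0, 5], [0, 1, 0, 1, 0,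 1, 0, 1, 0, 1, 0, 1, 0, 1, 0, 1], [0, 1, 0, 2, 0, 1, 0, 2, 0, 1, 0, 2, 0, 1, 0, 2], [0, 2, 0, 2, 0, 2, 0, 2, 0, 2, 0, 2, 0, 2, 0, 2], [0, 11, 0, 11], [0, 10, 0, 10], [0, 12, 0, 12], [0, 9, 2, 3, 9, 4]]
def inv (x : ℕ) : ℕ := [0, 2, 1, 3, 5, 4, 7, 6, 9, 8, 10, 11, 12].getD x 0
noncomputable def nl : List Net := [n0, n1, n2, n3, n4, n5, n6, n7, n8, n9, n10, n11, n12]
theorem nl_ok : allL (Net.ok (nat_lit 16)) nl = true := by decide +kernel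
noncomputable def R : Rep := mkRep (nat_lit 4) (nat_lit 16) nl (by decide +kernel) nl_ok
def defs : List (List ℕ) := []
theorem R_ge : ∀ x, 13 + defs.length ≤ x → R.p x = 1 := fun _ hx => mkRep_ge hx
theorem c0 : relsW R 0 R.lg ((B.drop 0).take 53) = true := by decide +kernel
theorem c1 : defsChk R defs 13 = true := by decide +kernel
theorem c2 : Model.fixW R [] [[0], [1]] = true := by decide +kernel
theorem c3 : Model.growW R [[0], [1]] [0, 1, 1, 0, 1, 1, 1, 0, 1, 1, 1] (Nat.pow 2 0) (ival 0 16) = true := by decide +kernel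
theorem c4 : Model.fixW R [0] [[3], [4]] = true := by decide +kernel
theorem c5 : Model.growW R [[3], [4]] [1, 0, 1, 1, 1, 1, 1, 0] (Nat.pow 2 1) (ival 1 14) = true := by decide +kernel
theorem c6 : Model.fixW R [1, 0] [[6], [8]] = true := by decide +kernel
theorem c7 : Model.growW R [[6], [8]] [0, 1, 0, 0, 1] (Nat.pow 2 2) (ival 2 12) = true := by decide +kernel
theorem c8 : Model.fixW R [2, 1, 0] [[10], [11], [12]] = true := by decide +kernel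
theorem c9 : Model.growW R [[10], [11], [12]] [0, 1, 2] (Nat.pow 2 3) (ival 3 8) = true := by decide +kernel
end H0.MHZ
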